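import Groth.Agent.IsoNatBaldLib.Basic
import Groth.Agent.S3020
import Groth.Prelude.Def_StGerb2

/-!
# Automorphism group schemes of points of stacks with quasi-affine diagonal
-/

set_option autoImplicit false
set_option linter.style.haveILetI false
set_option backward.isDefEq.respectTransparency false
set_option backward.isDefEq.respectTransparency.types false

universe u

open CategoryTheory CategoryTheory.Limits AlgebraicGeometry AlgSp FibCat FibLib AlgStLib IsoNat IsoNatLib IsoNatSepLib Opposite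
open CategoryTheory.Functor (Fiber IsPreFibered IsStronglyCartesian)

noncomputable section

namespace AutAffLib

variable {S : Scheme.{u}} {𝒳 : AlgSt.Cat S} [IsFibGrpd 𝒳.p] {V : Over S} (x : FibCat.overCat V ⥤ᵇ 𝒳)
  (G : Over V.left) [GrpObj G] (r : Gerb.AutRep x (Gerb.ptsGrp V G))

/-- The group scheme over the base. -/
abbrev gOver : Over S := Over.mk (G.hom ≫ V.hom)

/-- Its structure morphism. -/
abbrev gHom : gOver G ⟶ V := Over.homMk G.hom rfl

/-- The point of the point `x`. -/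
abbrev pt : 𝒳.p.Fiber V := Fiber.mk (p := 𝒳.p) (a := x.obj (Over.mk (𝟙 V))) (x.w_obj _)

/-- The corresponding object of the self product. -/
abbrev zz : (fp (toSelf 𝒳) (toSelf 𝒳)).p.Fiber V :=
  Fiber.mk (p := (fp (toSelf 𝒳) (toSelf 𝒳)).p) (a := (diag (toSelf 𝒳)).obj (pt x).1)
    (((diag (toSelf 𝒳)).w_obj (pt x).1).trans (pt x).2)

lemma map_eq {T : Over S} {g : T ⟶ V} {y : 𝒳.p.Fiber T} {a b : y.1 ⟶ (pt x).1} (ha : 𝒳.p.IsHomLift g a)
    (hb : 𝒳.p.IsHomLift g b) : 𝒳.p.map a = 𝒳.p.map b :=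
  (@IsHomLift.fac' _ _ _ _ 𝒳.p _ _ _ _ g a ha).trans (@IsHomLift.fac' _ _ _ _ 𝒳.p _ _ _ _ g b hb).symm

/-- The element defined by two maps to `x`. -/
def mkElt {T : Over S} (g : T ⟶ V) (y : 𝒳.p.Fiber T) (a b : y.1 ⟶ (pt x).1) (ha : 𝒳.p.IsHomLift g a)
    (hb : 𝒳.p.IsHomLift g b) : Elt (diag (toSelf 𝒳)) (zz x) T where
  base := g
  obj := y
  map := fpHom (x := (diag (toSelf 𝒳)).obj y.1) (y := (diag (toSelf 𝒳)).obj (pt x).1) a b (by
    change 𝒳.p.map a ≫ 𝟙 _ = 𝟙 _ ≫ 𝒳.p.map b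
    rw [Category.comp_id, Category.id_comp, map_eq x ha hb])
  lift := by
    haveI : 𝒳.p.IsHomLift g (fpHom (x := (diag (toSelf 𝒳)).obj y.1) (y := (diag (toSelf 𝒳)).obj (pt x).1) a b (by
      change 𝒳.p.map a ≫ 𝟙 _ = 𝟙 _ ≫ 𝒳.p.map b
      rw [Category.comp_id, Category.id_comp, map_eq x ha hb])).hom.fst := ha
    exact isHomLift_of_fst _ _

/-- The object of `x` over `T`. -/
abbrev obT (T : Over V) : 𝒳.p.Fiber T.left := Fiber.mk (p := 𝒳.p) (a := x.obj T) (x.w_obj T)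

/-- The map to the point. -/
abbrev top (T : Over V) : x.obj T ⟶ (pt x).1 := x.map (toId T)

lemma lift_top (T : Over V) : 𝒳.p.IsHomLift T.hom (top x T) := lift_map x (toId T)

lemma lift_id_congr {A B : Over S} (e : A = B) {a b : 𝒳.obj} {φ : a ⟶ b} (h : 𝒳.p.IsHomLift (𝟙 A) φ) :
    𝒳.p.IsHomLift (𝟙 B) φ := by subst e; exact h

lemma lift_iso (T : Over V) (γ : (Gerb.ptsGrp V G).obj (op T)) :
    𝒳.p.IsHomLift (𝟙 T.left) ((r.iso T γ).hom.1) :=
  lift_id_congr (x.w_obj T) (r.iso T γ).hom.2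

/-- The element of a point of the group scheme. -/
def eltPt (T : Over V) (γ : (Gerb.ptsGrp V G).obj (op T)) : Elt (diag (toSelf 𝒳)) (zz x) T.left :=
  mkElt x T.hom (obT x T) ((r.iso T γ).hom.1 ≫ top x T) (top x T)
    (lift_congr (Category.id_comp _) (comp_lift (lift_iso x G r T γ) (lift_top x T))) (lift_top x T)

lemma ehom_map {T' T : Over V} (h : T' ⟶ T) (γ : (Gerb.ptsGrp V G).obj (op T)) :
    EHom h.left (eltPt x G r T' ((Gerb.ptsGrp V G).map h.op γ)) (eltPt x G r T γ) := by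
  have e1 : x.map h ≫ top x T = top x T' := by
    rw [top, top, ← x.toFunctor.map_comp, comp_toId]
  refine ⟨x.map h, lift_map x h, fp_hom_ext ?_ e1⟩
  change x.map h ≫ (r.iso T γ).hom.1 ≫ top x T = (r.iso T' ((Gerb.ptsGrp V G).map h.op γ)).hom.1 ≫ top x T'
  rw [← Category.assoc, ← r.natural h γ, Category.assoc, e1]

lemma ehom_inj {T : Over V} {γ γ' : (Gerb.ptsGrp V G).obj (op T)}
    (h : EHom (𝟙 T.left) (eltPt x G r T γ) (eltPt x G r T γ')) : γ = γ' := by
  obtain ⟨k, hk, e⟩ := h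
  have h₁ : k ≫ (r.iso T γ').hom.1 ≫ top x T = (r.iso T γ).hom.1 ≫ top x T := congrArg (fun m => m.hom.fst) e
  have h₂ : k ≫ top x T = top x T := congrArg (fun m => m.hom.snd) e
  have hk1 : k = 𝟙 _ := eq_of_fac (lift_top x T) hk (IsHomLift.id (x.w_obj T)) (h₂.trans (Category.id_comp _).symm)
  rw [hk1] at h₁
  have he : (r.iso T γ').hom.1 = (r.iso T γ).hom.1 := eq_of_fac (lift_top x T) (lift_iso x G r T γ')
    (lift_iso x G r T γ) ((Category.id_comp _).symm.trans h₁)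
  exact (r.iso T).injective (Iso.ext (Fiber.hom_ext he.symm))

lemma ehom_surj {T : Over S} (E : Elt (diag (toSelf 𝒳)) (zz x) T) :
    ∃ γ : (Gerb.ptsGrp V G).obj (op (Over.mk E.base)), EHom (𝟙 T) (eltPt x G r (Over.mk E.base) γ) E := by
  let U : Over V := Over.mk E.base
  let a : E.obj.1 ⟶ (pt x).1 := E.map.hom.fst
  let b : E.obj.1 ⟶ (pt x).1 := E.map.hom.snd
  haveI hE := E.lift
  have ha : 𝒳.p.IsHomLift E.base a := isHomLift_fst E.base E.map
  have hb : 𝒳.p.IsHomLift E.base b := isHomLift_snd E.base E.map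
  have hl : 𝒳.p.IsHomLift (𝟙 T ≫ E.base) (top x U) := lift_congr (Category.id_comp _).symm (lift_top x U)
  obtain ⟨l, hl', el⟩ := exists_fac (g := 𝟙 T) b hb (top x U) hl
  obtain ⟨θ, hθ, eθ⟩ := exists_fac (g := 𝟙 T) (top x U) (lift_top x U) (l ≫ a) (comp_lift hl' ha)
  have hθ' : 𝒳.p.IsHomLift (𝟙 (𝒳.p.obj (x.obj U))) θ := lift_id_congr (x.w_obj U).symm hθ
  haveI := hθ'
  haveI : IsIso θ := isIso_of_isHomLift 𝒳.p (𝟙 (𝒳.p.obj (x.obj U))) θ
  let σ : Gerb.AutO (x.obj U) :=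
    ⟨(⟨θ, hθ'⟩ : Gerb.fib (x.obj U) ⟶ Gerb.fib (x.obj U)),
      ⟨inv θ, @IsHomLift.lift_id_inv _ _ _ _ 𝒳.p _ _ _ (asIso θ) hθ'⟩,
      Fiber.hom_ext (IsIso.hom_inv_id θ), Fiber.hom_ext (IsIso.inv_hom_id θ)⟩
  refine ⟨(r.iso U).symm σ, l, hl', fp_hom_ext ?_ el⟩
  change l ≫ a = (r.iso U ((r.iso U).symm σ)).hom.1 ≫ top x U
  rw [MulEquiv.apply_symm_apply]
  exact eθ.symm

/-- The automorphism group scheme of a point represents the pullback of the diagonal. -/
theorem exists_iso_classifier {H : Sp S} {aH : H ⟶ (yon S).obj V}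
    (C : Classifier (diag (toSelf 𝒳)) (zz x) aH) (r : Gerb.AutRep x (Gerb.ptsGrp V G)) {W : Over S}
    (f : (yon S).obj W ≅ H) : ∃ φ : gOver G ≅ W, (yon S).map φ.hom ≫ f.hom ≫ aH = (yon S).map (gHom G) := by
  let T₀ : Over V := Over.mk (gHom G)
  let γ₀ : (Gerb.ptsGrp V G).obj (op T₀) := Over.homMk (𝟙 G.left) (Category.id_comp _)
  let E₀ := eltPt x G r T₀ γ₀
  obtain ⟨φ, hφ⟩ := (yon S).map_surjective (C.cls E₀ ≫ f.inv)
  have hφf : (yon S).map φ ≫ f.hom = C.cls E₀ := by rw [hφ, Category.assoc, f.inv_hom_id, Category.comp_id]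
  -- points of the group scheme correspond to elements
  have hpt : ∀ {T : Over V} (γ : (Gerb.ptsGrp V G).obj (op T)), ∃ h : T ⟶ T₀, h.left.left = γ.left ∧
      (Gerb.ptsGrp V G).map h.op γ₀ = γ := fun {T} γ => by
    let u : T.left ⟶ gOver G := Over.homMk γ.left (((Category.assoc _ _ _).symm.trans
      (congrArg (· ≫ V.hom) (Over.w γ))).trans (Over.w T.hom))
    exact ⟨Over.homMk u (Over.OverMorphism.ext (Over.w γ)), rfl,
      Over.OverMorphism.ext (Category.comp_id γ.left)⟩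
  have hcls : ∀ {T : Over V} (γ : (Gerb.ptsGrp V G).obj (op T)), ∃ h : T ⟶ T₀, h.left.left = γ.left ∧
      C.cls (eltPt x G r T γ) = (yon S).map h.left ≫ C.cls E₀ := fun {T} γ => by
    obtain ⟨h, h1, h2⟩ := hpt γ
    refine ⟨h, h1, ?_⟩
    conv_lhs => rw [← h2]
    exact C.cls_map (ehom_map x G r h γ₀)
  obtain ⟨E, hE⟩ := C.exists_elt f.hom
  obtain ⟨γ, hγ⟩ := ehom_surj x G r E
  obtain ⟨h, -, hh⟩ := hcls γ
  have hq : (yon S).map h.left ≫ C.cls E₀ = f.hom :=
    hh.symm.trans ((C.cls_map hγ).trans ((congrArg (· ≫ C.cls E) ((yon S).map_id _)).trans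
      ((Category.id_comp _).trans hE)))
  have hw : h.left ≫ φ = 𝟙 W := (yon S).map_injective ((cancel_mono f.hom).1 (by
    rw [Functor.map_comp, Category.assoc, hφf, hq]
    exact ((congrArg (· ≫ f.hom) ((yon S).map_id W)).trans (Category.id_comp _)).symm))
  have hinj : ∀ {T : Over S} (u u' : T ⟶ gOver G), u ≫ φ = u' ≫ φ → u = u' := fun {T} u u' e => by
    have hu : (yon S).map u ≫ C.cls E₀ = (yon S).map u' ≫ C.cls E₀ := by
      rw [← hφf, ← Functor.map_comp_assoc, e, Functor.map_comp_assoc]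
    have hb : u ≫ gHom G = u' ≫ gHom G := (yon S).map_injective (by
      rw [Functor.map_comp, Functor.map_comp, show (yon S).map (gHom G) = C.cls E₀ ≫ aH from (C.cls_comp E₀).symm,
        ← Category.assoc, hu, Category.assoc])
    let U : Over V := Over.mk (u ≫ gHom G)
    let k : U ⟶ T₀ := Over.homMk u rfl
    let k' : U ⟶ T₀ := Over.homMk u' hb.symm
    have e1 := C.cls_map (ehom_map x G r k γ₀)
    have e2 := C.cls_map (ehom_map x G r k' γ₀)
    have key := ehom_inj x G r (C.ehom_of_eq (e1.trans (hu.trans e2.symm)))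
    have : k.left.left = k'.left.left := by
      have := congrArg (fun m => m.left) key
      exact ((Category.comp_id _).symm.trans this).trans (Category.comp_id _)
    exact Over.OverMorphism.ext this
  refine ⟨⟨φ, h.left, hinj _ _ (by rw [Category.assoc, hw, Category.id_comp, Category.comp_id]), hw⟩, ?_⟩
  change (yon S).map φ ≫ f.hom ≫ aH = _
  rw [← Category.assoc, hφf]
  exact C.cls_comp E₀

theorem isAffine_autScheme (h𝒳 : AlgSt.IsAlgStack Scheme.fppfPrecoverage 𝒳)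
    (hΔ : AlgSt.RepByAlgSpWith IsQuasiAffineMor (FibCat.diag (FibCat.toSelf 𝒳)))
    (k : Type u) [Field k] (p : Spec (CommRingCat.of k) ⟶ S) (x : FibCat.overCat (Over.mk p) ⥤ᵇ 𝒳)
    (G : Over (Over.mk p).left) [GrpObj G] (r : Gerb.AutRep x (Gerb.ptsGrp (Over.mk p) G)) :
    IsAffine G.left ∧ LocallyOfFiniteType G.hom := by
  haveI : IsFibGrpd (fp (toSelf 𝒳) (toSelf 𝒳)).p := isFibGrpd_fp
  let V : Over S := Over.mk p
  obtain ⟨H, aH, hH, ⟨hqa, hlft⟩, -, ⟨C⟩⟩ := exists_classifier (repByAlgSpWith_inf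
    good_lft.bc.precomp_iso hΔ (repByAlgSpWith_lft_diag_toSelf h𝒳)) (zz x)
  haveI hV : IsAffine V.left := inferInstanceAs (IsAffine (Spec (CommRingCat.of k)))
  obtain ⟨W, i, fst, sq, hW⟩ := hqa (Z := V) hV (𝟙 _)
  haveI : IsIso fst := sq.isIso_fst_of_isIso
  obtain ⟨φ, hφ⟩ := exists_iso_classifier x G C r (asIso fst)
  have hi : φ.hom ≫ i = gHom G := (yon S).map_injective (by
    rw [Functor.map_comp, ← hφ, asIso_hom, sq.w, Category.comp_id])
  haveI : W.left.IsQuasiAffine := hW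
  haveI : IsIso φ.hom.left := inferInstanceAs (IsIso ((Over.forget S).map φ.hom))
  haveI hGq : G.left.IsQuasiAffine := Scheme.IsQuasiAffine.of_isAffineHom φ.hom.left
  haveI : CompactSpace G.left := inferInstance
  haveI : LocallyOfFiniteType i.left :=
    (AlgSpLib.locP_yon_map_iff i).1 (AlgSpLib.locP_of_isPullback hH (IsAlgSpace.yon_obj _)
      (IsAlgSpace.yon_obj _) sq hlft)
  haveI hlf : LocallyOfFiniteType G.hom := by
    have e : G.hom = φ.hom.left ≫ i.left := (congrArg CommaMorphism.left hi).symm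
    rw [e]
    infer_instance
  haveI : QuasiCompact G.hom := quasiCompact_of_compactSpace _
  exact ⟨Groth.Agent.S3020.result k G, hlf⟩

end AutAffLib
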